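import Groth.Agent.RelTildeX.Chart

/-!
# The adjunct of a map into a direct image along an open immersion
-/

noncomputable section

universe u

open CategoryTheory AlgebraicGeometry TopologicalSpace

namespace Groth.Agent.ProjTwistIso16

variable {X P : Scheme.{u}} (h : X ⟶ P) [IsOpenImmersion h] {M : P.Modules} {N : X.Modules}
  (φ : M ⟶ (Scheme.Modules.pushforward h).obj N)

lemma symm_homEquiv_eq :
    ((Scheme.Modules.pullbackPushforwardAdjunction h).homEquiv M N).symm φ =
      (Scheme.Modules.restrictFunctorIsoPullback h).inv.app M ≫ RelTildeX.chartHom h φ := by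
  rw [← cancel_epi ((Scheme.Modules.restrictFunctorIsoPullback h).hom.app M),
    Iso.hom_inv_id_app_assoc, Adjunction.homEquiv_counit, ← NatTrans.naturality_assoc,
    RelTildeX.chartHom]
  congr 1
  exact Adjunction.leftAdjointUniq_hom_app_counit _ _ _

/-- The adjunct is an isomorphism when the map is bijective over the opens of the image. -/
lemma isIso_symm_homEquiv (hbij : ∀ W : P.Opens, W ≤ h.opensRange → Function.Bijective (φ.app W)) :
    IsIso (((Scheme.Modules.pullbackPushforwardAdjunction h).homEquiv M N).symm φ) := by
  rw [symm_homEquiv_eq]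
  haveI := RelTildeX.isIso_chartHom h φ hbij
  infer_instance

end Groth.Agent.ProjTwistIso16
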