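import Groth.Prelude.Def_GrTwist
import Mathlib.AlgebraicGeometry.ProjectiveSpectrum.Functor

/-!
# When `GrTwist.comap` is bijective over the opens of the image

Conditions (L) (local lifting of fractions) and (I) (local injectivity), together with an open immersion, give
bijectivity on sections over the opens contained in the image.
-/

noncomputable section

universe u

open CategoryTheory AlgebraicGeometry TopologicalSpace Opposite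
open scoped HomogeneousIdeal

namespace Groth.Agent.ProjTwistIso16

variable {A σ B τ : Type u} [CommRing A] [SetLike σ A] [AddSubgroupClass σ A] {𝒜 : ℕ → σ} [GradedRing 𝒜]
variable [CommRing B] [SetLike τ B] [AddSubgroupClass τ B] {ℬ : ℕ → τ} [GradedRing ℬ]
variable (ψ : 𝒜 →+*ᵍ ℬ) (hψ : ℬ₊ ≤ (𝒜₊).map ψ)

/-- Fractions at points of the image lift. -/
def Lifts (n : ℤ) : Prop :=
  ∀ (y : ProjectiveSpectrum ℬ) (i j : ℕ) (b t : B), b ∈ ℬ i → t ∈ ℬ j → t ∉ y.asHomogeneousIdeal →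
    ((i : ℤ) = j + n ∨ b = 0) →
    ∃ (i' j' : ℕ) (a s : A), a ∈ 𝒜 i' ∧ s ∈ 𝒜 j' ∧ s ∉ (ProjectiveSpectrum.comap ψ hψ y).asHomogeneousIdeal ∧
      ((i' : ℤ) = j' + n ∨ a = 0) ∧ ψ a * t = ψ s * b

/-- Homogeneous elements killed locally upstairs are killed locally downstairs. -/
def Kills : Prop :=
  ∀ (y : ProjectiveSpectrum ℬ) (m : ℕ) (a : A) (u : B), a ∈ 𝒜 m → u ∉ y.asHomogeneousIdeal → u * ψ a = 0 →
    ∃ w, w ∉ (ProjectiveSpectrum.comap ψ hψ y).asHomogeneousIdeal ∧ w * a = 0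

variable {ψ hψ}

lemma mk_eq_of_kills (hI : Kills ψ hψ) (y : ProjectiveSpectrum ℬ) {n : ℤ} {i j i' j' : ℕ} {a s a' s' : A}
    (ha : a ∈ 𝒜 i) (hs : s ∈ 𝒜 j) (hc : (i : ℤ) = j + n ∨ a = 0)
    (ha' : a' ∈ 𝒜 i') (hs' : s' ∈ 𝒜 j') (hc' : (i' : ℤ) = j' + n ∨ a' = 0)
    (hsy : s ∉ (ProjectiveSpectrum.comap ψ hψ y).asHomogeneousIdeal)
    (hsy' : s' ∉ (ProjectiveSpectrum.comap ψ hψ y).asHomogeneousIdeal)
    (h : GrTwist.locMap ψ hψ y (Localization.mk a ⟨s, hsy⟩) =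
      GrTwist.locMap ψ hψ y (Localization.mk a' ⟨s', hsy'⟩)) :
    (Localization.mk a ⟨s, hsy⟩ : GrTwist.Loc 𝒜 (ProjectiveSpectrum.comap ψ hψ y)) =
      Localization.mk a' ⟨s', hsy'⟩ := by
  rw [GrTwist.locMap_mk, GrTwist.locMap_mk, Localization.mk_eq_mk_iff, Localization.r_iff_exists] at h
  obtain ⟨⟨u, hu⟩, h⟩ := h
  simp only at h
  have hcmem : ∃ m, s' * a - s * a' ∈ 𝒜 m := by
    rcases hc with hc | hc
    · rcases hc' with hc' | hc'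
      · have e : j' + i = j + i' := by omega
        exact ⟨j + i', sub_mem (e ▸ SetLike.mul_mem_graded hs' ha) (SetLike.mul_mem_graded hs ha')⟩
      · exact ⟨j' + i, by simpa [hc'] using SetLike.mul_mem_graded hs' ha⟩
    · exact ⟨j + i', by simpa [hc] using SetLike.mul_mem_graded hs ha'⟩
  obtain ⟨m, hm⟩ := hcmem
  obtain ⟨w, hw, hw0⟩ := hI y m _ u hm hu (by simp only [map_sub, map_mul, mul_sub, h, sub_self])
  rw [Localization.mk_eq_mk_iff, Localization.r_iff_exists]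
  exact ⟨⟨w, hw⟩, by simp only; rwa [mul_sub, sub_eq_zero] at hw0⟩

lemma mk_mem_twistAt {n : ℤ} {x : ProjectiveSpectrum 𝒜} {i j : ℕ} {a s : A} (ha : a ∈ 𝒜 i) (hs : s ∈ 𝒜 j)
    (hsx : s ∉ x.asHomogeneousIdeal) (hc : (i : ℤ) = j + n ∨ a = 0) :
    (Localization.mk a ⟨s, hsx⟩ : GrTwist.Loc 𝒜 x) ∈ GrTwist.twistAt 𝒜 n x := by
  rcases hc with hc | hc
  · exact Submodule.subset_span ⟨i, j, ⟨a, ha⟩, ⟨s, hs⟩, hsx, hc, rfl⟩
  · rw [hc, Localization.mk_zero]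
    exact zero_mem _

/-- Bijectivity of `comap` over the opens of the image. -/
theorem comap_app_bijective [IsOpenImmersion (Proj.map ψ hψ)] {n : ℤ} (hL : Lifts ψ hψ n) (hI : Kills ψ hψ)
    (W : (Proj 𝒜).Opens) (hW : W ≤ (Proj.map ψ hψ).opensRange) :
    Function.Bijective ((GrTwist.comap ψ hψ n).app W) := by
  have hinj : Function.Injective (ProjectiveSpectrum.comap ψ hψ) :=
    (Proj.map ψ hψ).isOpenEmbedding.injective
  have hopen : IsOpenMap (ProjectiveSpectrum.comap ψ hψ) := (Proj.map ψ hψ).isOpenEmbedding.isOpenMap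
  have hsurj : ∀ x ∈ W, ∃ y, ProjectiveSpectrum.comap ψ hψ y = x := fun x hx => hW hx
  constructor
  · intro (s₁ : GrTwist.sectN (𝒜 := 𝒜) n (op W)) (s₂ : GrTwist.sectN (𝒜 := 𝒜) n (op W)) he
    refine Subtype.ext (funext fun x => Subtype.ext ?_)
    obtain ⟨x, hx⟩ := x
    obtain ⟨y, rfl⟩ := hsurj x hx
    have hy := congrArg (fun t : GrTwist.sectN (𝒜 := ℬ) n (op (Proj.map ψ hψ ⁻¹ᵁ W)) =>
      ((t.1 ⟨y, hx⟩).1 : GrTwist.Loc ℬ y)) he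
    replace hy : GrTwist.locMap ψ hψ y (s₁.1 ⟨_, hx⟩).1 = GrTwist.locMap ψ hψ y (s₂.1 ⟨_, hx⟩).1 := hy
    obtain ⟨V, hV, iV, i, j, ⟨a, ha⟩, ⟨s, hs⟩, nin, hc, hf⟩ := s₁.2 ⟨_, hx⟩
    obtain ⟨V', hV', iV', i', j', ⟨a', ha'⟩, ⟨s', hs'⟩, nin', hc', hf'⟩ := s₂.2 ⟨_, hx⟩
    have e₁ := hf ⟨_, hV⟩
    have e₂ := hf' ⟨_, hV'⟩
    rw [show (s₁.1 ⟨_, hx⟩).1 = _ from e₁, show (s₂.1 ⟨_, hx⟩).1 = _ from e₂] at hy
    exact e₁.trans ((mk_eq_of_kills hI y ha hs hc ha' hs' hc' (nin ⟨_, hV⟩) (nin' ⟨_, hV'⟩) hy).trans e₂.symm)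
  · intro (t : GrTwist.sectN (𝒜 := ℬ) n (op (Proj.map ψ hψ ⁻¹ᵁ W)))
    have key : ∀ x : W, ∃ (i j : ℕ) (a s : A), a ∈ 𝒜 i ∧ s ∈ 𝒜 j ∧ ((i : ℤ) = j + n ∨ a = 0) ∧
        ∃ hsx : s ∉ x.1.asHomogeneousIdeal, ∀ (y : (Proj.map ψ hψ ⁻¹ᵁ W : (Proj ℬ).Opens))
          (hy : ProjectiveSpectrum.comap ψ hψ y.1 = x.1),
          (t.1 y).1 = Localization.mk (ψ a) (⟨ψ s, fun h => hsx (hy ▸
            (h : s ∈ (ProjectiveSpectrum.comap ψ hψ y.1).asHomogeneousIdeal))⟩ :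
            y.1.asHomogeneousIdeal.toIdeal.primeCompl) := by
      rintro ⟨x, hx⟩
      obtain ⟨y, rfl⟩ := hsurj x hx
      obtain ⟨V, hV, iV, i, j, ⟨b, hb⟩, ⟨t₀, ht⟩, nin, hc, hf⟩ := t.2 ⟨y, hx⟩
      obtain ⟨i', j', a, s, ha, hs, hsy, hc', he⟩ := hL y i j b t₀ hb ht (nin ⟨y, hV⟩) hc
      refine ⟨i', j', a, s, ha, hs, hc', hsy, fun y' hy' => ?_⟩
      obtain ⟨y', hy''⟩ := y'
      obtain rfl := hinj hy'
      refine (hf ⟨y', hV⟩).trans ?_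
      rw [Localization.mk_eq_mk_iff, Localization.r_iff_exists]
      exact ⟨1, by simp only [OneMemClass.coe_one, one_mul]; linear_combination -he⟩
    choose I J a s ha hs hc hsx hval using key
    let σ₀ : ∀ x : W, GrTwist.twistAt 𝒜 n x.1 :=
      fun x => ⟨Localization.mk (a x) ⟨s x, hsx x⟩, mk_mem_twistAt (ha x) (hs x) (hsx x) (hc x)⟩
    have hσ : (GrTwist.isLocFracN 𝒜 n).pred σ₀ := by
      rintro ⟨x, hx⟩
      obtain ⟨y, rfl⟩ := hsurj x hx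
      obtain ⟨V, hV, iV, i, j, ⟨b, hb⟩, ⟨t₀, ht⟩, nin, hc₀, hf⟩ := t.2 ⟨y, hx⟩
      obtain ⟨i', j', a', s', ha', hs', hsy', hc', he⟩ := hL y i j b t₀ hb ht (nin ⟨y, hV⟩) hc₀
      let D : Opens (ProjectiveSpectrum.top ℬ) := ⟨_, (ProjectiveSpectrum.basicOpen ℬ (ψ s')).2⟩
      have hE : IsOpen (V.carrier ∩ D.carrier) := V.2.inter D.2
      let W' : Opens (ProjectiveSpectrum.top 𝒜) :=
        ⟨ProjectiveSpectrum.comap ψ hψ '' (V.carrier ∩ D.carrier),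
          hopen _ hE⟩
      have hW' : W' ≤ W := by
        rintro _ ⟨z, ⟨hzV, -⟩, rfl⟩
        exact iV.le hzV
      refine ⟨W', ⟨y, ⟨hV, hsy'⟩, rfl⟩, homOfLE hW', i', j', ⟨a', ha'⟩, ⟨s', hs'⟩, ?_, hc', ?_⟩
      · rintro ⟨_, z, ⟨-, hzD⟩, rfl⟩
        exact fun h => hzD h
      · rintro ⟨_, z, ⟨hzV, hzD⟩, rfl⟩
        have hz : ProjectiveSpectrum.comap ψ hψ z ∈ W := iV.le hzV
        refine mk_eq_of_kills hI z (ha ⟨_, hz⟩) (hs ⟨_, hz⟩) (hc ⟨_, hz⟩) ha' hs' hc' (hsx ⟨_, hz⟩) hzD ?_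
        rw [GrTwist.locMap_mk, GrTwist.locMap_mk]
        refine (hval ⟨_, hz⟩ ⟨z, hz⟩ rfl).symm.trans ((hf ⟨z, hzV⟩).trans ?_)
        rw [Localization.mk_eq_mk_iff, Localization.r_iff_exists]
        exact ⟨1, by simp only [OneMemClass.coe_one, one_mul]; linear_combination -he⟩
    refine ⟨(⟨σ₀, hσ⟩ : GrTwist.sectN (𝒜 := 𝒜) n (op W)), Subtype.ext (funext fun y => Subtype.ext ?_)⟩
    exact (GrTwist.locMap_mk ψ hψ y.1 _ _).trans (hval ⟨_, y.2⟩ y rfl).symm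

end Groth.Agent.ProjTwistIso16
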