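import Groth.Agent.Proj16.Map
import Groth.Agent.ProjTwistIso16.Basic

/-!
# Graded maps bijective in large degrees
-/

noncomputable section

universe u

open SetLike DirectSum AlgebraicGeometry HomogeneousIdeal HomogeneousLocalization CategoryTheory

namespace Groth.Agent.ProjTwistIso16

variable {A σ B τ : Type u} [CommRing A] [SetLike σ A] [AddSubgroupClass σ A] {𝒜 : ℕ → σ} [GradedRing 𝒜]
variable [CommRing B] [SetLike τ B] [AddSubgroupClass τ B] {ℬ : ℕ → τ} [GradedRing ℬ]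
variable (φ : 𝒜 →+*ᵍ ℬ)

lemma exists_homogeneous_notMem (x : ProjectiveSpectrum 𝒜) :
    ∃ (d : ℕ) (f : A), 0 < d ∧ f ∈ 𝒜 d ∧ f ∉ x.asHomogeneousIdeal := by
  by_contra! H
  refine x.not_irrelevant_le ?_
  rw [← toIdeal_le_toIdeal_iff, irrelevant_eq_span, Ideal.span_le]
  simp only [Set.iUnion_subset_iff]
  exact fun i hi a ha ↦ H i a hi ha

lemma awayMk_pow {s : A} {d : ℕ} (hs : s ∈ 𝒜 d) (n N : ℕ) (a : A) (ha : a ∈ 𝒜 (n • d)) :
    Away.mk 𝒜 hs n a ha = Away.mk 𝒜 hs (n + N) (s ^ N * a) (by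
      simpa [Nat.add_mul, add_comm] using SetLike.mul_mem_graded (SetLike.pow_mem_graded N hs) ha) := by
  apply HomogeneousLocalization.val_injective
  simp only [Away.val_mk, Localization.mk_eq_mk_iff, Localization.r_iff_exists]
  exact ⟨1, by simp [pow_add]; ring⟩

lemma awayMap_bijective_of_eventually (d₀ : ℕ) {s : A} {d : ℕ} (hd : 0 < d) (hs : s ∈ 𝒜 d)
    (h : ∀ n : ℕ, d₀ ≤ n → Set.BijOn φ (𝒜 n : Set A) (ℬ n : Set B)) :
    Function.Bijective (Away.map φ s) := by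
  constructor
  · rw [injective_iff_map_eq_zero]
    intro x hx
    obtain ⟨n, a, ha, rfl⟩ := x.mk_surjective 𝒜 hs
    rw [Away.map_mk, ← (HomogeneousLocalization.val_injective _).eq_iff,
      Away.val_mk, HomogeneousLocalization.val_zero, Localization.mk_eq_mk'] at hx
    obtain ⟨⟨_, m, rfl⟩, hm⟩ := (IsLocalization.mk'_eq_zero_iff _ _).mp hx
    apply HomogeneousLocalization.val_injective
    rw [Away.val_mk, HomogeneousLocalization.val_zero, Localization.mk_eq_mk']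
    refine (IsLocalization.mk'_eq_zero_iff _ _).mpr ⟨⟨s ^ (d₀ + m), _, rfl⟩, ?_⟩
    have hmem : s ^ (d₀ + m) * a ∈ 𝒜 ((d₀ + m) • d + n • d) :=
      SetLike.mul_mem_graded (SetLike.pow_mem_graded _ hs) ha
    have hle : d₀ ≤ (d₀ + m) • d + n • d := by
      simp only [smul_eq_mul]; nlinarith
    refine (h _ hle).injOn hmem (zero_mem _) ?_
    change φ s ^ m * φ a = 0 at hm
    rw [map_zero, map_mul, map_pow, pow_add, mul_assoc, hm, mul_zero]
  · intro x
    obtain ⟨n, b, hb, rfl⟩ := x.mk_surjective ℬ (φ.2 hs)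
    rw [awayMk_pow (φ.2 hs) n d₀]
    obtain ⟨a, ha, hab⟩ := (h ((n + d₀) • d) (by simp only [smul_eq_mul]; nlinarith)).surjOn
      (show φ s ^ d₀ * b ∈ ℬ ((n + d₀) • d) by
        simpa [Nat.add_mul, add_comm] using SetLike.mul_mem_graded (SetLike.pow_mem_graded d₀ (φ.2 hs)) hb)
    refine ⟨Away.mk 𝒜 hs (n + d₀) a ha, ?_⟩
    rw [Away.map_mk]
    congr 1

variable {φ} (hφ : irrelevant ℬ ≤ (irrelevant 𝒜).map φ)

lemma isIso_map_of_eventually (d₀ : ℕ) (h : ∀ n : ℕ, d₀ ≤ n → Set.BijOn φ (𝒜 n : Set A) (ℬ n : Set B)) :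
    IsIso (Proj.map φ hφ) :=
  Proj16.map_of_away (P := MorphismProperty.isomorphisms Scheme.{u}) φ hφ fun _ s hd hs ↦ by
    have : IsIso (CommRingCat.ofHom (Away.map φ s)) :=
      (ConcreteCategory.isIso_iff_bijective _).mpr (awayMap_bijective_of_eventually φ d₀ hd hs h)
    simp only [MorphismProperty.isomorphisms.iff]
    infer_instance

lemma lifts_of_eventually (d₀ : ℕ) (h : ∀ n : ℕ, d₀ ≤ n → Set.BijOn φ (𝒜 n : Set A) (ℬ n : Set B)) (n : ℤ) :
    Lifts φ hφ n := by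
  intro y i j b t hb ht hty hc
  obtain ⟨d, f, hd, hf, hfx⟩ := exists_homogeneous_notMem (ProjectiveSpectrum.comap φ hφ y)
  have hfy : φ f ∉ y.asHomogeneousIdeal := hfx
  have hle : d₀ ≤ d₀ • d := by simp only [smul_eq_mul]; nlinarith
  have hp : φ f ^ d₀ ∈ ℬ (d₀ • d) := SetLike.pow_mem_graded d₀ (φ.2 hf)
  obtain ⟨s, hs, hst⟩ := (h (d₀ • d + j) (by omega)).surjOn (SetLike.mul_mem_graded hp ht)
  have hsx : s ∉ (ProjectiveSpectrum.comap φ hφ y).asHomogeneousIdeal := fun hmem => by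
    have : φ f ^ d₀ * t ∈ y.asHomogeneousIdeal.toIdeal := hst ▸ hmem
    rcases y.isPrime.mem_or_mem this with h | h
    · exact hfy (y.isPrime.mem_of_pow_mem _ h)
    · exact hty h
  rcases hc with hc | hc
  · obtain ⟨a, ha, hab⟩ := (h (d₀ • d + i) (by omega)).surjOn (SetLike.mul_mem_graded hp hb)
    refine ⟨_, _, a, s, ha, hs, hsx, Or.inl (by push_cast; omega), ?_⟩
    rw [hab, hst]; ring
  · exact ⟨0, _, 0, s, zero_mem _, hs, hsx, Or.inr rfl, by rw [hc, map_zero, zero_mul, mul_zero]⟩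

lemma exists_component_kill {m : ℕ} {b u : B} (y : ProjectiveSpectrum ℬ) (hb : b ∈ ℬ m)
    (hu : u ∉ y.asHomogeneousIdeal) (h : u * b = 0) :
    ∃ (p : ℕ) (v : B), v ∈ ℬ p ∧ v ∉ y.asHomogeneousIdeal ∧ v * b = 0 := by
  obtain ⟨p, hp⟩ : ∃ p, GradedRing.proj ℬ p u ∉ y.asHomogeneousIdeal := by
    by_contra! H
    exact hu (Proj16.mem_of_forall_proj_mem ℬ (s := y.asHomogeneousIdeal.toIdeal) H)
  refine ⟨p, GradedRing.proj ℬ p u, by rw [GradedRing.proj_apply]; exact SetLike.coe_mem _, hp, ?_⟩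
  rw [GradedRing.proj_apply, ← DirectSum.coe_decompose_mul_add_of_right_mem ℬ hb, h]
  simp

lemma kills_of_eventually (d₀ : ℕ) (h : ∀ n : ℕ, d₀ ≤ n → Set.BijOn φ (𝒜 n : Set A) (ℬ n : Set B)) :
    Kills φ hφ := by
  intro y m a u ha hu hua
  obtain ⟨p, v, hv, hvy, hv0⟩ := exists_component_kill y (φ.2 ha) hu hua
  obtain ⟨d, f, hd, hf, hfx⟩ := exists_homogeneous_notMem (ProjectiveSpectrum.comap φ hφ y)
  have hfy : φ f ∉ y.asHomogeneousIdeal := hfx
  have hle : d₀ ≤ d₀ • d := by simp only [smul_eq_mul]; nlinarith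
  have hp : φ f ^ d₀ * v ∈ ℬ (d₀ • d + p) := SetLike.mul_mem_graded (SetLike.pow_mem_graded d₀ (φ.2 hf)) hv
  obtain ⟨w, hw, hwv⟩ := (h (d₀ • d + p) (by omega)).surjOn hp
  refine ⟨w, fun hmem => ?_, ?_⟩
  · have : φ f ^ d₀ * v ∈ y.asHomogeneousIdeal.toIdeal := hwv ▸ hmem
    rcases y.isPrime.mem_or_mem this with h | h
    · exact hfy (y.isPrime.mem_of_pow_mem _ h)
    · exact hvy h
  · refine (h (d₀ • d + p + m) (by omega)).injOn (SetLike.mul_mem_graded hw ha) (zero_mem _) ?_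
    change v * φ a = 0 at hv0
    rw [map_mul, hwv, map_zero, mul_assoc, hv0, mul_zero]

end Groth.Agent.ProjTwistIso16
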