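import Groth.Agent.Proj16.Map
import Groth.Agent.ProjTwistIso16.Basic
import Mathlib.AlgebraicGeometry.Morphisms.OpenImmersion
import Mathlib.AlgebraicGeometry.Morphisms.RingHomProperties

/-!
# Localization at an element of degree zero
-/

noncomputable section

universe u

open SetLike DirectSum AlgebraicGeometry HomogeneousIdeal HomogeneousLocalization CategoryTheory

namespace Groth.Agent.ProjTwistIso16

section toSpecZero

variable {A σ : Type u} [CommRing A] [SetLike σ A] [AddSubgroupClass σ A] {𝒜 : ℕ → σ} [GradedRing 𝒜]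

lemma mem_toSpecZero_preimage_iff (g : 𝒜 0) (x : Proj 𝒜) :
    (Proj.toSpecZero 𝒜).base x ∈ PrimeSpectrum.basicOpen g ↔ (g : A) ∉ x.asHomogeneousIdeal := by
  obtain ⟨d, f, -, hd, hf, hxf, -⟩ :
      ∃ (d : ℕ) (f : A), True ∧ 0 < d ∧ f ∈ 𝒜 d ∧ x ∈ Proj.basicOpen 𝒜 f ∧ True := by
    obtain ⟨d, f, hd, hf, hxf, -⟩ := Proj16.exists_basicOpen_subset isOpen_univ (Set.mem_univ x)
    exact ⟨d, f, trivial, hd, hf, hxf, trivial⟩
  obtain ⟨q, rfl⟩ : x ∈ (Proj.awayι 𝒜 f hf hd).opensRange := by rwa [Proj.opensRange_awayι]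
  have hfg : f * (g : A) ∈ 𝒜 d := by simpa using SetLike.mul_mem_graded hf g.2
  have h1 : (q ∈ Proj.awayι 𝒜 f hf hd ⁻¹ᵁ Proj.basicOpen 𝒜 (f * (g : A))) ↔
      (g : A) ∉ (Proj.awayι 𝒜 f hf hd q).asHomogeneousIdeal :=
    ⟨fun h hg => h (Ideal.mul_mem_left _ _ hg),
      fun h hfg' => ((Proj.awayι 𝒜 f hf hd q).isPrime.mem_or_mem hfg').elim hxf h⟩
  rw [← h1, Proj.awayι_preimage_basicOpen 𝒜 hf hd hfg hd]
  have he : Away.isLocalizationElem hf hfg = fromZeroRingHom 𝒜 (Submonoid.powers f) g ^ d := by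
    apply HomogeneousLocalization.val_injective
    rw [val_pow, Away.isLocalizationElem, Away.val_mk]
    show _ = (Localization.mk (g : A) (1 : Submonoid.powers f)) ^ d
    rw [Localization.mk_pow, Localization.mk_eq_mk_iff, Localization.r_iff_exists]
    exact ⟨1, by simp; ring⟩
  rw [he, PrimeSpectrum.basicOpen_pow _ d hd, ← Scheme.Hom.comp_apply, Proj.awayι_toSpecZero]
  rfl

end toSpecZero

variable {R A : Type u} [CommRing R] [CommRing A] [Algebra R A] {𝒜 : ℕ → Submodule R A} [GradedAlgebra 𝒜]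
variable {B : Type u} [CommRing B] [Algebra R B] {ℬ : ℕ → Submodule R B} [GradedAlgebra ℬ] {ψ : 𝒜 →+*ᵍ ℬ}

/-- `B` is the graded localization of `A` at the degree-zero element `g`. -/
structure IsGradedAway (ψ : 𝒜 →+*ᵍ ℬ) (g : A) : Prop where
  deg_zero : g ∈ 𝒜 0
  exists_eq : ∀ {n : ℕ} {b : B}, b ∈ ℬ n → ∃ (k : ℕ) (a : A), a ∈ 𝒜 n ∧ ψ g ^ k * b = ψ a
  isUnit : IsUnit (ψ g)
  inv_mem : ∃ v ∈ ℬ 0, ψ g * v = 1
  eq_zero : ∀ a : A, ψ a = 0 → ∃ k : ℕ, g ^ k * a = 0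
  surj : ∀ b : B, ∃ (k : ℕ) (a : A), ψ g ^ k * b = ψ a

lemma isGradedAway {g : A} (hg : g ∈ 𝒜 0) [Algebra A B] (hψA : ∀ a : A, ψ a = algebraMap A B a)
    [IsLocalization.Away g B]
    (hdeg : ∀ (n : ℕ) (b : B), b ∈ ℬ n ↔ ∃ (k : ℕ) (a : A), a ∈ 𝒜 n ∧ ψ g ^ k * b = ψ a) :
    IsGradedAway ψ g := by
  have hu : IsUnit (ψ g) := by rw [hψA]; exact IsLocalization.Away.algebraMap_isUnit g
  refine ⟨hg, fun hb => (hdeg _ _).1 hb, hu, ?_, fun a ha => ?_, fun b => ?_⟩
  · obtain ⟨v, hv⟩ := hu.exists_right_inv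
    exact ⟨v, (hdeg 0 v).2 ⟨1, 1, SetLike.GradedOne.one_mem, by rw [pow_one, hv, map_one]⟩, hv⟩
  · rw [hψA] at ha
    obtain ⟨⟨_, k, rfl⟩, hk⟩ := (IsLocalization.map_eq_zero_iff (Submonoid.powers g) B a).1 ha
    exact ⟨k, hk⟩
  · obtain ⟨⟨a, ⟨_, k, rfl⟩⟩, hk⟩ := IsLocalization.surj (Submonoid.powers g) b
    refine ⟨k, a, ?_⟩
    rw [hψA, hψA, ← map_pow, mul_comm]
    exact hk

variable {g : A}

lemma IsGradedAway.lifts (H : IsGradedAway ψ g) (hψ : irrelevant ℬ ≤ (irrelevant 𝒜).map ψ) (n : ℤ) :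
    Lifts ψ hψ n := by
  intro y i j b t hb ht hty hc
  obtain ⟨l, s, hs, hts⟩ := H.exists_eq ht
  have hgy : ψ g ∉ y.asHomogeneousIdeal := fun h =>
    y.isPrime.ne_top (Ideal.eq_top_of_isUnit_mem _ h H.isUnit)
  rcases hc with hc | hc
  · obtain ⟨k, a, ha, hba⟩ := H.exists_eq hb
    refine ⟨i, j, g ^ l * a, g ^ k * s, ?_, ?_, fun hmem => ?_, Or.inl hc, ?_⟩
    · simpa using SetLike.mul_mem_graded (SetLike.pow_mem_graded l H.deg_zero) ha
    · simpa using SetLike.mul_mem_graded (SetLike.pow_mem_graded k H.deg_zero) hs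
    · have h : ψ (g ^ k * s) ∈ y.asHomogeneousIdeal.toIdeal := hmem
      rw [map_mul, map_pow, ← hts, ← mul_assoc] at h
      rcases y.isPrime.mem_or_mem h with h | h
      · rcases y.isPrime.mem_or_mem h with h | h <;> exact hgy (y.isPrime.mem_of_pow_mem _ h)
      · exact hty h
    · simp only [map_mul, map_pow, ← hts, ← hba]; ring
  · refine ⟨0, j, 0, s, zero_mem _, hs, fun hmem => ?_, Or.inr rfl, by
      rw [hc, map_zero, zero_mul, mul_zero]⟩
    have h : ψ s ∈ y.asHomogeneousIdeal.toIdeal := hmem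
    rw [← hts] at h
    rcases y.isPrime.mem_or_mem h with h | h
    · exact hgy (y.isPrime.mem_of_pow_mem _ h)
    · exact hty h

lemma IsGradedAway.kills (H : IsGradedAway ψ g) (hψ : irrelevant ℬ ≤ (irrelevant 𝒜).map ψ) :
    Kills ψ hψ := by
  intro y m a u _ hu hua
  obtain ⟨k, c, hc⟩ := H.surj u
  have hgy : ψ g ∉ y.asHomogeneousIdeal := fun h =>
    y.isPrime.ne_top (Ideal.eq_top_of_isUnit_mem _ h H.isUnit)
  obtain ⟨l, hl⟩ := H.eq_zero (c * a) (by rw [map_mul, ← hc, mul_assoc, hua, mul_zero])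
  refine ⟨g ^ l * c, fun hmem => ?_, by rw [mul_assoc, hl]⟩
  have h : ψ (g ^ l * c) ∈ y.asHomogeneousIdeal.toIdeal := hmem
  rw [map_mul, map_pow, ← hc] at h
  rcases y.isPrime.mem_or_mem h with h | h
  · exact hgy (y.isPrime.mem_of_pow_mem _ h)
  · rcases y.isPrime.mem_or_mem h with h | h
    · exact hgy (y.isPrime.mem_of_pow_mem _ h)
    · exact hu h

lemma IsGradedAway.isOpenImmersion_away (H : IsGradedAway ψ g) {s : A} {d : ℕ} (hs : s ∈ 𝒜 d) :
    IsOpenImmersion (Spec.map (CommRingCat.ofHom (Away.map ψ s))) := by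
  letI : Algebra (Away 𝒜 s) (Away ℬ (ψ s)) := (Away.map ψ s).toAlgebra
  let e : Away 𝒜 s := Away.mk 𝒜 hs 0 g (by simpa using H.deg_zero)
  have hval : ∀ (n : ℕ) (a : A) (ha : a ∈ 𝒜 (n • d)) (k : ℕ),
      (e ^ k * Away.mk 𝒜 hs n a ha).val = Localization.mk (g ^ k * a) (⟨s ^ n, n, rfl⟩ : Submonoid.powers s) := by
    intro n a ha k
    rw [val_mul, val_pow, Away.val_mk, Away.val_mk, Localization.mk_pow, Localization.mk_mul]
    congr 1
    exact Subtype.ext (by simp)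
  haveI : IsLocalization.Away e (Away ℬ (ψ s)) := by
    refine IsLocalization.Away.mk e ?_ (fun z => ?_) (fun a b hab => ?_)
    · obtain ⟨v, hv, hv1⟩ := H.inv_mem
      refine IsUnit.of_mul_eq_one (Away.mk ℬ (ψ.2 hs) 0 v (by simpa using hv)) ?_
      apply HomogeneousLocalization.val_injective
      rw [RingHom.algebraMap_toAlgebra, Away.map_mk, val_mul, Away.val_mk, Away.val_mk, val_one,
        Localization.mk_mul, hv1, ← Localization.mk_one]
      congr 1
      exact Subtype.ext (by simp)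
    · obtain ⟨n, b, hb, rfl⟩ := z.mk_surjective ℬ (ψ.2 hs)
      obtain ⟨k, a, ha, hab⟩ := H.exists_eq hb
      refine ⟨k, Away.mk 𝒜 hs n a ha, ?_⟩
      apply HomogeneousLocalization.val_injective
      rw [RingHom.algebraMap_toAlgebra, Away.map_mk, Away.map_mk, val_mul, val_pow, Away.val_mk,
        Away.val_mk, Away.val_mk, Localization.mk_pow, Localization.mk_mul, ← hab, mul_comm]
      congr 1
      exact Subtype.ext (by simp)
    · obtain ⟨n, c, hc, hsub⟩ := (a - b).mk_surjective 𝒜 hs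
      have h0 : Away.map ψ s (a - b) = 0 := by
        rw [map_sub, sub_eq_zero]; exact hab
      rw [← hsub, Away.map_mk, ← (HomogeneousLocalization.val_injective _).eq_iff, Away.val_mk,
        val_zero, Localization.mk_eq_mk'] at h0
      obtain ⟨⟨_, m, rfl⟩, hm⟩ := (IsLocalization.mk'_eq_zero_iff _ _).mp h0
      obtain ⟨k, hk⟩ := H.eq_zero (s ^ m * c) (by
        rw [map_mul, map_pow]; exact hm)
      refine ⟨k, sub_eq_zero.1 ?_⟩
      rw [← mul_sub, ← hsub]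
      apply HomogeneousLocalization.val_injective
      rw [hval, val_zero, Localization.mk_eq_mk']
      exact (IsLocalization.mk'_eq_zero_iff _ _).mpr ⟨(⟨s ^ m, m, rfl⟩ : Submonoid.powers s), by linear_combination hk⟩
  exact IsOpenImmersion.of_isLocalization (S := Away ℬ (ψ s)) e

lemma IsGradedAway.isOpenImmersion (H : IsGradedAway ψ g) (hψ : irrelevant ℬ ≤ (irrelevant 𝒜).map ψ) :
    IsOpenImmersion (Proj.map ψ hψ) :=
  Proj16.map_of_away (P := @IsOpenImmersion) ψ hψ fun _ _ _ hs => H.isOpenImmersion_away hs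

lemma IsGradedAway.range_eq {hg : g ∈ 𝒜 0} (H : IsGradedAway ψ g) [Algebra A B]
    (hψA : ∀ a : A, ψ a = algebraMap A B a) [IsLocalization.Away g B]
    (hψ : irrelevant ℬ ≤ (irrelevant 𝒜).map ψ) :
    Set.range (Proj.map ψ hψ).base =
      (Proj.toSpecZero 𝒜).base ⁻¹' (PrimeSpectrum.basicOpen (⟨g, hg⟩ : 𝒜 0) : Set (PrimeSpectrum (𝒜 0))) := by
  ext x
  refine Iff.trans ?_ (mem_toSpecZero_preimage_iff _ x).symm
  constructor
  · rintro ⟨y, rfl⟩ h
    exact y.isPrime.ne_top (Ideal.eq_top_of_isUnit_mem _ h H.isUnit)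
  · intro hgx
    have hψe : (ψ : A → B) = algebraMap A B := funext hψA
    have hdisj : Disjoint (Submonoid.powers g : Set A) (x.asHomogeneousIdeal.toIdeal : Set A) := by
      rw [Set.disjoint_left]
      rintro _ ⟨k, rfl⟩ hk
      exact hgx (x.isPrime.mem_of_pow_mem _ hk)
    have hmap : (x.asHomogeneousIdeal.map ψ).toIdeal = x.asHomogeneousIdeal.toIdeal.map (algebraMap A B) := by
      rw [Ideal.map, ← hψe]
      rfl
    have hp : (x.asHomogeneousIdeal.map ψ).toIdeal.IsPrime := hmap ▸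
      IsLocalization.isPrime_of_isPrime_disjoint (Submonoid.powers g) B _ x.isPrime hdisj
    have hcomap : ∀ a : A, ψ a ∈ x.asHomogeneousIdeal.map ψ ↔ a ∈ x.asHomogeneousIdeal := fun a => by
      change ψ a ∈ (x.asHomogeneousIdeal.map ψ).toIdeal ↔ a ∈ x.asHomogeneousIdeal.toIdeal
      rw [hmap, hψA, ← Ideal.mem_comap]
      exact SetLike.ext_iff.1 (IsLocalization.comap_map_of_isPrime_disjoint (Submonoid.powers g) B x.isPrime hdisj) a
    refine ⟨⟨x.asHomogeneousIdeal.map ψ, hp, fun h => x.not_irrelevant_le ?_⟩, ?_⟩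
    · rw [irrelevant_le]
      intro i hi a ha
      exact (hcomap a).1 (h (mem_irrelevant_of_mem ℬ hi (ψ.2 ha)))
    · exact ProjectiveSpectrum.ext (HomogeneousIdeal.ext (SetLike.ext hcomap))

end Groth.Agent.ProjTwistIso16
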